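import Cfsg.Agent.Helper27.F4X2
import Cfsg.Agent.Helper27.F4X3
import Cfsg.Agent.Helper18.ScalarExt
import Cfsg.Agent.Helper4.F4Inv.Skel

/-!
# PIECE NC for helper4's S2184 (#11326): `z = x₄₄(1) x₄₇(1)` and `v = x₃₉(1) x₄₅(1)` are not conjugate in
`GL₅₂(K)`, `char K = 2`

`rank (z - 1) ≤ 21` (explicit factorisation `z - 1 = P * Q`, `P = P * E₂₁`) while `T * (v - 1) * U = E₂₂`
(`E_k` the diagonal idempotent of rank `k`); the certificates are checked over `ZMod 2` on helper27's packed
codes (`Helper27.BitMat`: one natural number per `52 × 52` matrix, products by big-number arithmetic) and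
transported along `ZMod 2 →+* K` (`Helper18.x_map'`).
-/

set_option autoImplicit false

namespace Cfsg.Agent.Helper31.F4Inv

open Cfsg Cfsg.Lie Cfsg.Agent.Helper27.BitMat

/-- the matrix with packed code `c` -/
def dec (c : ℕ) : Mat52 := Matrix.of fun a b => if Nat.testBit c (52 * cd a + cd b) then 1 else 0

theorem isCodeM_dec {c : ℕ} (hc : c < 2 ^ 2704) : IsCodeM c (dec c) := ⟨hc, fun _ _ => rfl⟩

theorem isCodeM_sub {c d : ℕ} {g h : Mat52} (hc : IsCodeM c g) (hd : IsCodeM d h) :
    IsCodeM (c ^^^ d) (g - h) := by
  refine ⟨Nat.xor_lt_two_pow hc.1 hd.1, fun a b => ?_⟩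
  rw [Matrix.sub_apply, hc.2, hd.2, Nat.testBit_xor]
  cases Nat.testBit c (52 * cd a + cd b) <;> cases Nat.testBit d (52 * cd a + cd b) <;> decide

def cP : ℕ := 562146863938451119892979316117432709344708812187740756135554788792780859310902084537497703962064980905409720682986321374143723263859666621279859663599301186732468513631162665992420734878489606271134042664720103803204079650892410021545946292237202917639169272406304733963710783023451045093343061259283913620649156833227997479852658615491155481396219013755474896325596767914891650459870209123368526690086082256255980771867158981614945010487582845942005724123011587269076703290749470648750742370845219451958040259465784202869734229559371619315130595461118209091537353216764110113373834003818307295258533949234177089817902961568236251584264152972727401097138107961686892374203148606580578616634157167640207724941957981936979534672026818187552565320493078730456249300833525884471063785426008102624716390404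
def cQ : ℕ := 1581267603963364293656854996940561002501767057777718764639958641864922695752448077769676409329622022784168422653754551141861307284078144569752359487581421063685576027285225163735700567875779831729739599640603126712731718600179321143189726257681869960514499561452847380163835901873251610485886047563267878734247704089591809
def cT : ℕ := 14934651156982890581079663016925873749004959382697262499957268140683288047721538199519061699483190155964977336984202101867808339420208637066881035774625481999506991367985982094992870517169198841478102637623165242289545409023814682048806046541694659297540507672714033577342101851413410700500000944746786573460003702458018902279666425681118494721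
def cU : ℕ := 10163996283851953356872887160888167570394337077664098162618196418385678039752592402980835131053721742397107653479538910947814999605733016624894067146956830129367546472721630955711682996792928302249157449924662449320707281412355159041176083630504886193674584844342591808356400428969599518434607992377893876724846654605036181478770133746113088800010558452307623152935079658524023717888
def cE21 : ℕ := 12353653155963784229959688262809365751114407533385793306313778475701931610886804330142550204789738290085416618763881385727924744736446335729823763179897442333993335337691763918954786034638646918940359482350392817101828139696240794300011311903264791755077892320353474838044950402916492807087827356057798191323641230131201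
def cE22 : ℕ := 111271815499725701126453784974975364462886478750014264629806264729895754872205967949118182832440666514660157919856207850844136003531566274248450988470558480313451354484579483591300560760760983501227964657677739202352327136238105705913226199416601934490626926991958825163789610114809037325255742312074215617992830557986683531721432891393

/-- the code of `z = x₄₄(1) x₄₇(1)` -/
def cZ : ℕ := mulU cX44 cX47
/-- the code of `v = x₃₉(1) x₄₅(1)` -/
def cV : ℕ := mulU cX39 cX45

theorem cP_lt : cP < 2 ^ 2704 := by decide +kernel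
theorem cQ_lt : cQ < 2 ^ 2704 := by decide +kernel
theorem cT_lt : cT < 2 ^ 2704 := by decide +kernel
theorem cU_lt : cU < 2 ^ 2704 := by decide +kernel
theorem cE21_lt : cE21 < 2 ^ 2704 := by decide +kernel
theorem cE22_lt : cE22 < 2 ^ 2704 := by decide +kernel

theorem cert1 : mulU cP cQ = cZ ^^^ Icode := by decide +kernel
theorem cert2 : mulU cP cE21 = cP := by decide +kernel
theorem cert3 : mulU (mulU cT (cV ^^^ Icode)) cU = cE22 := by decide +kernel

/-- the diagonal idempotent of rank `k` -/
def diagE (k : ℕ) : Mat52 := Matrix.diagonal fun i => if cd i < k then 1 else 0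

set_option maxRecDepth 1000000 in
theorem chkE21 : ∀ p : chevF4.Idx × chevF4.Idx,
    diagE 21 p.1 p.2 = if Nat.testBit cE21 (52 * cd p.1 + cd p.2) then 1 else 0 := by
  decide +kernel

set_option maxRecDepth 1000000 in
theorem chkE22 : ∀ p : chevF4.Idx × chevF4.Idx,
    diagE 22 p.1 p.2 = if Nat.testBit cE22 (52 * cd p.1 + cd p.2) then 1 else 0 := by
  decide +kernel

theorem hE21 : IsCodeM cE21 (diagE 21) := ⟨cE21_lt, fun a b => chkE21 (a, b)⟩
theorem hE22 : IsCodeM cE22 (diagE 22) := ⟨cE22_lt, fun a b => chkE22 (a, b)⟩

theorem hX44 : IsCodeM cX44 (chevF4.x (ZMod 2) 44 1) := ⟨cX44_lt, fun a b => chkX44 (a, b)⟩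
theorem hX47 : IsCodeM cX47 (chevF4.x (ZMod 2) 47 1) := ⟨cX47_lt, fun a b => chkX47 (a, b)⟩
theorem hX39 : IsCodeM cX39 (chevF4.x (ZMod 2) 39 1) := ⟨cX39_lt, fun a b => chkX39 (a, b)⟩
theorem hX45 : IsCodeM cX45 (chevF4.x (ZMod 2) 45 1) := ⟨cX45_lt, fun a b => chkX45 (a, b)⟩

/-- `z - 1 = P * Q` over `𝔽₂` -/
theorem eqA2 : chevF4.x (ZMod 2) 44 1 * chevF4.x (ZMod 2) 47 1 - 1 = dec cP * dec cQ := by
  apply isCodeM_inj (c := cZ ^^^ Icode)
  · exact isCodeM_sub (isCodeM_mul hX44 hX47) isCodeM_one
  · rw [← cert1]
    exact isCodeM_mul (isCodeM_dec cP_lt) (isCodeM_dec cQ_lt)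

/-- `P = P * E₂₁` over `𝔽₂` -/
theorem eqP2 : dec cP * diagE 21 = dec cP := by
  apply isCodeM_inj (c := cP)
  · rw [← cert2]
    exact isCodeM_mul (isCodeM_dec cP_lt) hE21
  · exact isCodeM_dec cP_lt

/-- `T * (v - 1) * U = E₂₂` over `𝔽₂` -/
theorem eqB2 : dec cT * (chevF4.x (ZMod 2) 39 1 * chevF4.x (ZMod 2) 45 1 - 1) * dec cU = diagE 22 := by
  apply isCodeM_inj (c := cE22)
  · rw [← cert3]
    exact isCodeM_mul (isCodeM_mul (isCodeM_dec cT_lt)
      (isCodeM_sub (isCodeM_mul hX39 hX45) isCodeM_one)) (isCodeM_dec cU_lt)
  · exact hE22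

theorem card_cd_lt_21 : Fintype.card {i : chevF4.Idx // cd i < 21} = 21 := by decide +kernel
theorem card_cd_lt_22 : Fintype.card {i : chevF4.Idx // cd i < 22} = 22 := by decide +kernel

section Transport

variable (K : Type*) [Field K] [CharP K 2]

/-- the canonical homomorphism `ZMod 2 →+* K` -/
noncomputable def cast2 : ZMod 2 →+* K := ZMod.castHom (dvd_refl 2) K

theorem x_eq_map (r : ℕ) : chevF4.x K r 1 = (chevF4.x (ZMod 2) r 1).map (cast2 K) := by
  rw [Cfsg.Agent.Helper18.x_map', map_one]

theorem map_sub_one (M : Mat52) : (M - 1).map (cast2 K) = M.map (cast2 K) - 1 := by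
  rw [Matrix.map_sub (cast2 K) (map_sub (cast2 K)), Matrix.map_one (cast2 K) (map_zero _) (map_one _)]

theorem rank_diagE (k : ℕ) : ((diagE k).map (cast2 K)).rank = Fintype.card {i : chevF4.Idx // cd i < k} := by
  classical
  unfold diagE
  rw [Matrix.diagonal_map (map_zero _), Matrix.rank_diagonal]
  apply Fintype.card_congr
  apply Equiv.subtypeEquivRight
  intro i
  by_cases h : cd i < k
  · simp [h]
  · simp [h]

theorem eqA : chevF4.x K 44 1 * chevF4.x K 47 1 - 1 =
    (dec cP).map (cast2 K) * (dec cQ).map (cast2 K) := by
  rw [x_eq_map K 44, x_eq_map K 47, ← Matrix.map_mul, ← map_sub_one, eqA2, Matrix.map_mul]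

theorem eqP : (dec cP).map (cast2 K) * (diagE 21).map (cast2 K) = (dec cP).map (cast2 K) := by
  rw [← Matrix.map_mul, eqP2]

theorem eqB : (dec cT).map (cast2 K) * (chevF4.x K 39 1 * chevF4.x K 45 1 - 1) *
    (dec cU).map (cast2 K) = (diagE 22).map (cast2 K) := by
  rw [x_eq_map K 39, x_eq_map K 45, ← Matrix.map_mul, ← map_sub_one, ← Matrix.map_mul, ← Matrix.map_mul, eqB2]

/-- PIECE NC, on matrices -/
theorem not_conj_mat : ¬ ∃ g : GL chevF4.Idx K,
    (g : Matrix chevF4.Idx chevF4.Idx K) * (chevF4.x K 44 1 * chevF4.x K 47 1) *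
      ((g⁻¹ : GL chevF4.Idx K) : Matrix chevF4.Idx chevF4.Idx K) =
    chevF4.x K 39 1 * chevF4.x K 45 1 := by
  rintro ⟨g, hg⟩
  have h1 : chevF4.x K 39 1 * chevF4.x K 45 1 - 1 =
      (g : Matrix chevF4.Idx chevF4.Idx K) * (chevF4.x K 44 1 * chevF4.x K 47 1 - 1) *
        ((g⁻¹ : GL chevF4.Idx K) : Matrix chevF4.Idx chevF4.Idx K) := by
    rw [← hg, Matrix.mul_sub, Matrix.sub_mul, Matrix.mul_one, ← Units.val_mul, mul_inv_cancel,
      Units.val_one]
  have h2 := eqB K
  rw [h1, eqA K, ← eqP K] at h2
  have h3 : (((dec cT).map (cast2 K) * (g : Matrix chevF4.Idx chevF4.Idx K)) *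
        (dec cP).map (cast2 K)) * (diagE 21).map (cast2 K) *
      ((dec cQ).map (cast2 K) * ((g⁻¹ : GL chevF4.Idx K) : Matrix chevF4.Idx chevF4.Idx K) *
        (dec cU).map (cast2 K)) = (diagE 22).map (cast2 K) := by
    rw [← h2]
    simp only [Matrix.mul_assoc]
  have h4 := Matrix.rank_mul_le_left
    ((((dec cT).map (cast2 K) * (g : Matrix chevF4.Idx chevF4.Idx K)) *
        (dec cP).map (cast2 K)) * (diagE 21).map (cast2 K))
    ((dec cQ).map (cast2 K) * ((g⁻¹ : GL chevF4.Idx K) : Matrix chevF4.Idx chevF4.Idx K) *
        (dec cU).map (cast2 K))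
  have h5 := Matrix.rank_mul_le_right
    (((dec cT).map (cast2 K) * (g : Matrix chevF4.Idx chevF4.Idx K)) * (dec cP).map (cast2 K))
    ((diagE 21).map (cast2 K))
  rw [h3, rank_diagE, card_cd_lt_22] at h4
  rw [rank_diagE, card_cd_lt_21] at h5
  omega

/-- PIECE NC -/
theorem pieceNC : Cfsg.Agent.Helper4.F4Inv.PieceNC K := by
  rintro ⟨g, hg⟩
  have htri := Cfsg.Agent.Helper18.triOK_of_mem chevF4 (by simp)
  apply not_conj_mat K
  refine ⟨g, ?_⟩
  have h := congrArg (fun u : GL chevF4.Idx K => (u : Matrix chevF4.Idx chevF4.Idx K)) hg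
  simp only [Units.val_mul, Cfsg.Agent.Helper18.xGL_val chevF4 _ htri] at h
  exact h

end Transport

end Cfsg.Agent.Helper31.F4Inv
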