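import Cfsg.Agent.Helper4.F4Inv.Skel

/-!
# PIECE SUR for helper4's S2184 (#11326): `x ↦ x^(2^m+1)` and `x ↦ x^(2^(m+1)+1)` are onto for
`|K| = 2^(2m+1)`
-/

set_option autoImplicit false

namespace Cfsg.Agent.Helper31.F4Inv

open Cfsg.Agent.Helper36.F4Class

/-- the `k`-th power map of a finite field is onto when `k` is positive and prime to `|K| - 1` -/
theorem exists_pow_eq_of_coprime {K : Type*} [Field K] [Fintype K] (k : ℕ) (hk : 0 < k)
    (hcop : (Fintype.card K - 1).Coprime k) (y : K) : ∃ x : K, x ^ k = y := by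
  by_cases hy : y = 0
  · exact ⟨0, by rw [hy, zero_pow hk.ne']⟩
  · have hc : (Nat.card Kˣ).Coprime k := by
      rw [Nat.card_units, Nat.card_eq_fintype_card]
      exact hcop
    obtain ⟨x, hx⟩ := (powCoprime hc).surjective (Units.mk0 y hy)
    refine ⟨(x : K), ?_⟩
    have := congrArg (fun u : Kˣ => (u : K)) hx
    simpa [powCoprime] using this

theorem coprime_aux1 (m : ℕ) : (2 ^ (2 * m + 1) - 1).Coprime (2 ^ m + 1) := by
  have h1 : 1 ≤ 2 ^ (2 * m + 1) := Nat.one_le_two_pow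
  -- `(2^m + 1) * (2 * (2^m - 1)) + 1 = 2^(2m+1) - 1`
  have hm : 1 ≤ 2 ^ m := Nat.one_le_two_pow
  have key : (2 ^ (2 * m + 1) - 1) = (2 ^ m + 1) * (2 * (2 ^ m - 1)) + 1 := by
    have e : 2 ^ (2 * m + 1) = 2 * (2 ^ m * 2 ^ m) := by
      rw [pow_succ, two_mul, pow_add]; ring
    obtain ⟨a, ha⟩ : ∃ a, 2 ^ m = a + 1 := ⟨2 ^ m - 1, by omega⟩
    rw [e, ha]
    simp only [Nat.add_sub_cancel]
    have : 2 * ((a + 1) * (a + 1)) = ((a + 1 + 1) * (2 * a) + 1) + 1 := by ring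
    omega
  rw [key]
  apply Nat.Coprime.symm
  rw [Nat.coprime_mul_left_add_right]
  exact Nat.coprime_one_right _

theorem coprime_aux2 (m : ℕ) : (2 ^ (2 * m + 1) - 1).Coprime (2 ^ (m + 1) + 1) := by
  -- `2 * (2^(2m+1) - 1) = (2^(m+1) + 1) * (2^(m+1) - 1) - 1`
  have hm : 1 ≤ 2 ^ (m + 1) := Nat.one_le_two_pow
  obtain ⟨a, ha⟩ : ∃ a, 2 ^ (m + 1) = a + 1 := ⟨2 ^ (m + 1) - 1, by omega⟩
  have e : 2 * 2 ^ (2 * m + 1) = (a + 1) * (a + 1) := by
    rw [← ha, ← pow_succ', ← pow_add]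
    congr 1
    ring
  -- `2 * (2^(2m+1) - 1) + 1 = (a + 2) * a`
  have key : 2 * (2 ^ (2 * m + 1) - 1) + 1 = (a + 1 + 1) * a := by
    have h1 : 1 ≤ 2 ^ (2 * m + 1) := Nat.one_le_two_pow
    have : (a + 1) * (a + 1) = (a + 1 + 1) * a + 1 := by ring
    omega
  rw [ha]
  -- any common divisor divides `1`
  apply Nat.Coprime.symm
  rw [Nat.coprime_iff_gcd_eq_one] 
  have hd1 : Nat.gcd (a + 1 + 1) (2 ^ (2 * m + 1) - 1) ∣ (a + 1 + 1) * a := 
    Dvd.dvd.mul_right (Nat.gcd_dvd_left _ _) _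
  have hd2 : Nat.gcd (a + 1 + 1) (2 ^ (2 * m + 1) - 1) ∣ 2 * (2 ^ (2 * m + 1) - 1) :=
    Dvd.dvd.mul_left (Nat.gcd_dvd_right _ _) _
  rw [← key] at hd1
  exact Nat.dvd_one.mp ((Nat.dvd_add_right hd2).mp hd1)

theorem pieceSUR (K : Type*) [Field K] [Fintype K] [CharP K 2] (m : ℕ) :
    Cfsg.Agent.Helper4.F4Inv.PieceSUR K m := by
  intro hK
  constructor
  · intro y
    obtain ⟨x, hx⟩ := exists_pow_eq_of_coprime (K := K) (2 ^ m + 1) (by positivity)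
      (by rw [hK]; exact coprime_aux1 m) y
    exact ⟨x, by rw [phi_apply, ← pow_succ, hx]⟩
  · intro y
    obtain ⟨x, hx⟩ := exists_pow_eq_of_coprime (K := K) (2 ^ (m + 1) + 1) (by positivity)
      (by rw [hK]; exact coprime_aux2 m) y
    exact ⟨x, by rw [phi_apply, ← pow_mul, ← pow_succ, ← pow_succ 2 m, hx]⟩

end Cfsg.Agent.Helper31.F4Inv
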